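import Cfsg.Agent.PG.BG16Defs

/-!
Peterfalvi (8.4), (8.5): elementary properties of groups of type P.
-/

set_option autoImplicit false
set_option linter.unusedSectionVars false

open Pointwise Cfsg Cfsg.Lib.Solv

namespace Cfsg.Lib.FT.PG

variable {G : Type*} [Group G] [Dl G] [Finite G] {M L U V K W W₁ W₂ S T : Subgroup G} {x a g : G}

theorem FT_cyclicTI_hyp (hG : Ctx G) (h : OfTypeP M U W W₁ W₂) (hM : Mx M := by assumption) :
    CyclicTIHyp ⊤ W W₁ W₂ := typeP_cyclicTI (mFT_odd hG W (hM.sub (typeP_W_le h))) h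

theorem FT_primeTI_hyp (hG : Ctx G) (h : OfTypeP M U W W₁ W₂) (hM : Mx M := by assumption) :
    PrimeTIHyp M ⁅M, M⁆ W W₁ W₂ :=
  ⟨h.dprod, h.sdprod, h.W₁_ne, h.W₁_hall, h.W₁_cyclic, h.W₂_ne, typeP_W₂_le_der h, h.W₂_cyclic,
    h.cent, mFT_odd hG W (hM.sub (typeP_W_le h))⟩

end Cfsg.Lib.FT.PG
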