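import Cfsg.Agent.PG.PF8.Supp

/-!
Peterfalvi (8.17), (8.18): the partition of the group by the Dade supports.
-/

set_option autoImplicit false
set_option linter.unusedSectionVars false

open Pointwise Cfsg Cfsg.Lib.Solv

namespace Cfsg.Lib.FT.PG

variable {G : Type*} [Group G] [Dl G] [Finite G] {M L U V K W W₁ W₂ S T : Subgroup G} {x a g : G}

/-- (8.17)(a1) -/
theorem FTcore_prime_exists (hG : Ctx G) {p : ℕ} (hp : p.Prime)
    (hd : p ∈ dl G) : ∃ M : Subgroup G, Mx M ∧ p ∣ Nat.card (FTcore M) := by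
  obtain ⟨M, hM, h⟩ := sigma_mmax_exists hG hp hd
  rw [← pi_Msigma hG hM, ← def_FTcore hG hM] at h
  exact ⟨M, hM, h.2⟩

theorem FT_Dade1_supportE (hG : Ctx G) (hM : Mx M) :
    tildeOf M (FTsupp1 M) = classSupport (sigmaSupport M) ⊤ := by
  ext g
  constructor
  · rintro ⟨a, ha, r, hr, y, rfl⟩
    obtain ⟨h1, h2⟩ := (mem_FTsupp1_iff_sigma hG hM).1 ha
    rw [supportR_eq_signalizer hG hM h1 h2] at hr
    exact ⟨a * r, ⟨a, h1, h2, by simpa using hr⟩, y, trivial, rfl⟩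
  · rintro ⟨z, ⟨a, h1, h2, hr⟩, y, -, rfl⟩
    rw [← supportR_eq_signalizer hG hM h1 h2] at hr
    exact ⟨a, (mem_FTsupp1_iff_sigma hG hM).2 ⟨h1, h2⟩, _, hr, y, by simp⟩

theorem FT_Dade1_support_disjoint (hG : Ctx G) (hS : Mx S) (hT : Mx T)
    (h : ¬ ConjIn ⊤ S T) : Disjoint (tildeOf S (FTsupp1 S)) (tildeOf T (FTsupp1 T)) := by
  rw [FT_Dade1_supportE hG hS, FT_Dade1_supportE hG hT]
  exact class_sigma_support_disjoint hG hS hT h

end Cfsg.Lib.FT.PG
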