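import Cfsg.Agent.PG.PF8.Supp

/-!
Peterfalvi, section 8: the character-theoretic statements.
-/

set_option autoImplicit false
set_option linter.unusedSectionVars false

open Pointwise Cfsg Cfsg.Lib.Solv

namespace Cfsg.Lib.FT.PG

variable {G : Type*} [Group G] [Dl G] [Finite G] {M L U V K W W₁ W₂ S T : Subgroup G} {x a g : G}

theorem FTtypeP_notReal (hG : Ctx G) (hM : Mx M) {𝓢 : Finset (G → ℂ)}
    (h𝓢 : 𝓢 ⊆ seqIndD ⁅M, M⁆ M (FTcore M) ⊥) : ∀ χ ∈ 𝓢, cj χ ≠ χ := fun χ hχ =>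
  seqInd_notReal (der_normal M) (mFT_odd hG M) (FTcore_sub_der1 hG hM) χ (h𝓢 hχ)

/-- `FTtypeP_coh_base`, `FTtypeP_subcoherent`, `FTtypeP_base_ortho`, `FTtypeP_base_TIred` in one
statement; `𝓐 = seqIndD M' M M_s 1`. -/
theorem FTtypeP_subcoherent (hG : Ctx G) (hM : Mx M)
    (h : OfTypeP M U W W₁ W₂) :
    ∃ R : (G → ℂ) → Finset (G → ℂ),
      (∀ 𝓢 : Finset (G → ℂ), CjSubset 𝓢 (seqIndD ⁅M, M⁆ M (FTcore M) ⊥) →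
        Subcoherent M ⊤ 𝓢 (FTDade0 M) R) ∧
      (∀ φ ∈ seqIndD ⁅M, M⁆ M (FTcore M) ⊥, φ ∈ Irr M → ∀ α ∈ R φ, ∀ (i : Hat W₁) (j : Hat W₂),
        dot ⊤ α (cycTIeta ⊤ i j) = 0) ∧
      ∀ j : Hat W₂, R (primeTIred M W₁ j) = prDadeRmu M W₁ j := by
  obtain ⟨R, h1, h2, h3⟩ := prDade_subcoherent (FT_prDade_hyp hG hM h)
    (seqInd_conjC_subset1 le_rfl) (FTtypeP_notReal hG hM le_rfl)
  exact ⟨R, fun 𝓢 h𝓢 => subset_subcoherent h1 h𝓢, h2, h3⟩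

end Cfsg.Lib.FT.PG
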