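import Cfsg.Agent.PG.BG16.Types

/-!
Peterfalvi (8.8)-(8.16): pairs of type P, the sets `A₀(M)` and their Dade hypotheses.
-/

set_option autoImplicit false
set_option linter.unusedSectionVars false

open Pointwise Cfsg Cfsg.Lib.Solv

namespace Cfsg.Lib.FT.PG

variable {G : Type*} [Group G] [Dl G] [Finite G] {M L U V K W W₁ W₂ S T : Subgroup G} {x a g : G}

/-! ### pairs of maximal subgroups of type P -/

/-- Peterfalvi (8.9) -/
theorem typeP_pairW (hG : Ctx G) (h : TypePPair S T W W₁ W₂) :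
    ∃ U, OfTypeP S U W W₁ W₂ := by
  obtain ⟨U, Z, Z₁, Z₂, hP⟩ := FTtypeP_witness hG h.maxS h.S_ne1
  obtain ⟨g, hg, rfl⟩ := of_typeP_compl_conj hP h.sdprodS
  have hP' := conj_of_typeP hP g
  rw [conjGid hg] at hP'
  have hd := h.cycTI.dprod
  have hWS : W ≤ S := h.inf ▸ inf_le_left
  have hab := cyclic_abelian h.cycTI.cyclic
  obtain ⟨x, hx, hx1⟩ := trivgPn.1 hP'.W₁_ne
  have h1 : W ≤ g •ᶜ Z := by
    rw [← typeP_cent1 hP' hx hx1]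
    exact le_inf hWS ((abelian_le_cent hab).trans (cent_le_cent1 (hd.le_left hx)))
  have h2 : W = g •ᶜ Z := by
    refine le_antisymm h1 ?_
    obtain ⟨v, hv⟩ := h.cycTI.normedTI.nonempty
    exact ((abelian_le_cent (cyclic_abelian (typeP_W_cyclic hP'))).trans
      (cent_le_cent1 (h1 hv.1))).trans (h.cycTI.normedTI.cent1_top hv)
  have hH : IsPiHallOf (piOf (Nat.card ↥(g •ᶜ Z₁))) (g •ᶜ Z₁) W :=
    pHall_subl hd.le_left hWS (Hall_pi hP'.W₁_hall)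
  have h3 : W₂ = g •ᶜ Z₂ :=
    eq_normal_Hall ((h2 ▸ hP'.dprod).sdprod.compl_pHall.1 hH) (h2 ▸ hP'.dprod.normal_right.norm)
      (hd.sdprod.compl_pHall.1 hH)
  exact ⟨_, h2 ▸ h3 ▸ hP'⟩

theorem FTtypeP_pair_witness' (hG : Ctx G) (hM : Mx M)
    (h : OfTypeP M U W W₁ W₂) :
    ∃ T, TypePPair M T W W₁ W₂ ∧ ¬ ConjIn ⊤ M T ∧ ∃ V, OfTypeP T V W W₂ W₁ := by
  obtain ⟨T, hT, hnc, -, ⟨hK, -⟩, ⟨hC, -⟩, ⟨-, hI, -⟩, -, h2, hconj, -⟩ :=
    Ptype_embedding hG (typeP_maxP hG hM h) (typeP_kappa_Hall hG hM h)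
  rw [typeP_cent_Msigma hG hM h] at hK hC hI h2
  obtain ⟨V, hV⟩ := typeP_of_kappa_Hall hG hT hK
  rw [hC, sup_comm, h.dprod.sup] at hV
  rw [h.dprod.sup] at hI
  refine ⟨T, ⟨FT_cyclicTI_hyp hG h, hM, hT.max, h.sdprod, hV.sdprod, hI, ?_, FTtypeP_neq1 hG hM h,
    FTtypeP_neq1 hG hT.max hV, fun L hL h1 => hconj L ((FTtype_Pmax hL).2 h1)⟩, hnc, V, hV⟩
  exact h2.imp (fun e => (FTtype_P2max hG hM).1 e.1) fun e => (FTtype_P2max hG hT.max).1 e.1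

theorem FTtypeP_pair_witness (hG : Ctx G) (hM : Mx M)
    (h : OfTypeP M U W W₁ W₂) : ∃ T, TypePPair M T W W₁ W₂ ∧ ∃ V, OfTypeP T V W W₂ W₁ := by
  obtain ⟨T, h1, -, h2⟩ := FTtypeP_pair_witness' hG hM h
  exact ⟨T, h1, h2⟩

/-- Peterfalvi (8.8) -/
theorem FTtypeP_pair_cases (hG : Ctx G) :
    (∀ M : Subgroup G, Mx M → FTtype M = 1) ∨
      ∃ S T W W₁ W₂ : Subgroup G, TypePPair S T W W₁ W₂ := by
  by_cases h : ∀ M : Subgroup G, Mx M → FTtype M = 1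
  · exact Or.inl h
  push Not at h
  obtain ⟨M, hM, h1⟩ := h
  obtain ⟨U, W, W₁, W₂, hP⟩ := FTtypeP_witness hG hM h1
  obtain ⟨T, hT, -⟩ := FTtypeP_pair_witness hG hM hP
  exact Or.inr ⟨M, T, W, W₁, W₂, hT⟩

/-! ### one maximal subgroup -/

theorem FTcore_Hall_G (hG : Ctx G) (hM : Mx M) :
    IsPiHallOf (sigma M) (FTcore M) ⊤ := def_FTcore hG hM ▸ Msigma_Hall_G hG hM

/-- Peterfalvi (8.11) -/
theorem FTcore_facts (hG : Ctx G) (hM : Mx M) :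
    IsHallOf (fittingHallOf M) ⊤ ∧ IsHallOf (FTcore M) ⊤ ∧
      ∀ (p : ℕ) (P : Subgroup G), p.Prime → IsSylowOf p P (FTcore M) → P ≠ ⊥ → 𝐍 P ≤ M := by
  have h1 := FTcore_Hall_G hG hM
  refine ⟨pHall_Hall (subHall_Hall h1 (π := piOf (Nat.card (fittingHallOf M))) ?_
    (pHall_subl (Fcore_sub_FTcore hG hM) (FTcore_sub M) (Hall_pi (Fcore_Hall M)))),
    pHall_Hall h1, fun p P hp hP hP1 => ?_⟩
  · exact fun p hp => pHall_pgroup h1 p hp.1 (hp.2.trans (cardSg (Fcore_sub_FTcore hG hM)))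
  · have : Fact p.Prime := ⟨hp⟩
    have hσ : p ∈ sigma M := mem_of_pgroup_of_ne_bot (Sylow_pgroup hP) hP1
      (pgroupS (pHall_sub hP) (pHall_pgroup h1))
    rw [def_FTcore hG hM] at hP
    exact norm_sigma_Sylow hσ (subHall_Sylow (Msigma_Hall hG hM) hσ hP)

/-- Peterfalvi (8.12); `FTder M` is `M` in type 1 and `M'` in type 2. -/
theorem FTtypeI_II_facts (hG : Ctx G) (hM : Mx M) (h : FTtype M ≤ 2)
    (hU : SDProd (fittingHallOf M) U (FTder M)) :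
    (∀ (p : ℕ) (P : Subgroup G), p.Prime → IsSylowOf p P U → IsMulCommutative P ∧ rank P ≤ 2) ∧
    (∀ X : Subgroup G, X ≤ U → X ≠ ⊥ → fittingHallOf M ⊓ 𝐂 X ≠ ⊥ → UniqMax (𝐂 X) M) ∧
    ((FTsupp M \ FTsupp1 M).Nonempty → NormedTI (FTsupp M \ FTsupp1 M) ⊤ M) := by
  have e := Fcore_eq_Msigma_of_le2 hG hM h
  have hUM : U ≤ M := hU.le_right.trans (FTder_sub M)
  rw [e] at hU ⊢
  have hσ : IsPiSubgroup (sigma M)ᶜ U := pHall_pgroup
    (hU.compl_pHall.1 (pHall_subl hU.le_left (FTder_sub M) (Msigma_Hall hG hM)))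
  refine ⟨fun p P hp hP => ?_, fun X hX hX1 hC => ?_, FTsupp_diff_TI hG hM⟩
  · have : Fact p.Prime := ⟨hp⟩
    have h1 := pgroupS (pHall_sub hP) hσ
    exact ⟨sigma'_nil_abelian hG hM ((pHall_sub hP).trans hUM) h1 (pgroup_nil (Sylow_pgroup hP)),
      alpha'_rank_le ((pHall_sub hP).trans hUM)
        (sub_pgroup (Set.compl_subset_compl.2 (alpha_sub_sigma hG hM)) h1)⟩
  · -- `U` is a complement in the sense of B & G, up to conjugacy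
    obtain ⟨K, hK⟩ := ex_kappa_Hall hG hM
    obtain ⟨V, hV⟩ := ex_kappa_compl hG hM hK
    have hκ : IsPiSubgroup (kappa M)ᶜ U := pgroupS hU.le_right (pHall_pgroup (FTder_Hall hG hM))
    have h2 : IsPiSubgroup (sigmaKappa M)ᶜ X := by
      rw [sigmaKappa, Set.compl_union]; exact pgroupS hX (pgroupI hσ hκ)
    obtain ⟨m, hm, hle⟩ := Hall_Jsub (mmax_sol hG hM) hV.hallU (hX.trans hUM) h2
    have h3 := ((kappa_structure hG hM hV).2.2.1 _ hle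
      (fun e => hX1 (conj_smul_eq_bot_iff.1 e)) (by
        rw [centJ, ← normP.1 ((Msigma_normal M).norm hm), ← conjIg]
        exact fun e => hC (conj_smul_eq_bot_iff.1 e))).1
    rw [centJ, ← conjGid hm] at h3
    exact (uniqMaxJ m).1 h3

theorem FTsupp0_typeP (hG : Ctx G) (hM : Mx M) (h : OfTypeP M U W W₁ W₂) :
    FTsupp0 M \ FTsupp M = classSupport (cyclicTIset W W₁ W₂) M := by
  have h1 := FTtypeP_neq1 hG hM h
  rw [typeP_classSupport_V h, FTsupp0, FTder_typeP h1, h.sdprod.relIndex_left,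
    Set.union_diff_left, sdiff_eq_left, Set.disjoint_left]
  rintro x ⟨-, -, h2⟩ hx
  have h3 := hx.1
  rw [FTder_typeP h1] at h3
  exact h2 (mem_p_elt (pHall_pgroup (h.sdprod.compl_p'Hall.2 (Hall_pi h.W₁_hall))) h3)

theorem FTtypeP_supp0_def (hG : Ctx G) (hM : Mx M)
    (h : OfTypeP M U W W₁ W₂) :
    FTsupp0 M = FTsupp M ∪ classSupport (cyclicTIset W W₁ W₂) M := by
  rw [← FTsupp0_typeP hG hM h, Set.union_diff_cancel (FTsupp_sub0 M)]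

/-- B & G, Theorem C(9) -/
theorem FTsupp0_diff_TI (hG : Ctx G) (hM : Mx M) (hx : x ∈ FTsupp0 M)
    (hx' : x ∉ FTsupp M) (hg : g * x * g⁻¹ ∈ FTsupp0 M) (hg' : g * x * g⁻¹ ∉ FTsupp M) : g ∈ M := by
  by_cases h1 : FTtype M = 1
  · exact absurd (FTsupp0_type1 h1 ▸ hx) hx'
  obtain ⟨U, W, W₁, W₂, h⟩ := FTtypeP_witness hG hM h1
  have e := FTsupp0_typeP hG hM h
  obtain ⟨m, hm, h2⟩ := mem_classSupport_iff.1 (e.subset ⟨hx, hx'⟩)
  obtain ⟨n, hn, h3⟩ := mem_classSupport_iff.1 (e.subset ⟨hg, hg'⟩)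
  have h4 : n * g * m⁻¹ ∈ W := h.normedTI.ti _ trivial _ h2 (by convert h3 using 1; group)
  have h5 := typeP_W_le h h4
  rwa [M.mul_mem_cancel_right (M.inv_mem hm), M.mul_mem_cancel_left hn] at h5

theorem mem_FTsupp0_sigma_iff (hG : Ctx G) (hM : Mx M) (hx : x ∈ FTsupp0 M) :
    x ∈ FTsupp1 M ↔ PiElt (sigma M) x := by
  have h1 := mem_sharp.1 (FTsupp0_sub M hx)
  rw [mem_FTsupp1_iff_sigma hG hM, mem_Msigma_iff hG hM h1.1, and_iff_left h1.2]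

theorem mem_FTsupp0_kappa_iff (hG : Ctx G) (hM : Mx M) (hx : x ∈ FTsupp0 M) :
    x ∈ FTsupp M ↔ PiElt (kappa M)ᶜ x := by
  have h1 := mem_sharp.1 (FTsupp0_sub M hx)
  rw [← mem_FTder_iff hG hM h1.1]
  refine ⟨fun h => h.1, fun h => hx.resolve_right fun h2 => h2.2.2 ?_⟩
  exact mem_p_elt (coprime_pi'.1 (pHall_coprime (FTder_Hall hG hM)).symm) h

/-- the three pieces of `A₀(M)`: outside `A₁(M)` the set is TI -/
theorem FTsupp0_conj_mem (hG : Ctx G) (hM : Mx M) (hx : x ∈ FTsupp0 M)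
    (hx1 : x ∉ FTsupp1 M) (hg : g * x * g⁻¹ ∈ FTsupp0 M) : g ∈ M := by
  by_cases h : x ∈ FTsupp M
  · have h1 : g * x * g⁻¹ ∈ FTsupp M := by
      rwa [mem_FTsupp0_kappa_iff hG hM hg, p_eltJ, ← mem_FTsupp0_kappa_iff hG hM hx]
    have h2 : g * x * g⁻¹ ∉ FTsupp1 M := by
      rwa [mem_FTsupp0_sigma_iff hG hM hg, p_eltJ, ← mem_FTsupp0_sigma_iff hG hM hx]
    exact (FTsupp_diff_TI hG hM ⟨x, h, hx1⟩).ti g trivial x ⟨h, hx1⟩ ⟨h1, h2⟩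
  · refine FTsupp0_diff_TI hG hM hx h hg ?_
    rwa [mem_FTsupp0_kappa_iff hG hM hg, p_eltJ, ← mem_FTsupp0_kappa_iff hG hM hx]

/-- Peterfalvi (8.13)(a) -/
theorem FTsupp0_fusion (hG : Ctx G) (hM : Mx M) (hx : x ∈ FTsupp0 M)
    (hg : g * x * g⁻¹ ∈ FTsupp0 M) : ∃ m ∈ M, m * x * m⁻¹ = g * x * g⁻¹ := by
  by_cases h : x ∈ FTsupp1 M
  · have h1 : g * x * g⁻¹ ∈ FTsupp1 M := by
      rwa [mem_FTsupp0_sigma_iff hG hM hg, p_eltJ, ← mem_FTsupp0_sigma_iff hG hM hx]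
    rw [mem_FTsupp1_iff_sigma hG hM] at h h1
    obtain ⟨n, hn, e⟩ := sigma_Hall_tame_fusion hG hM (H := sigmaCore M)
      ⟨le_rfl, by rw [Subgroup.relIndex_self]; exact Nat.coprime_one_right _⟩ h.1 h1.1
    exact ⟨n, hn.1, e⟩
  · exact ⟨g, FTsupp0_conj_mem hG hM hx h hg, rfl⟩

theorem FTsupp1_of_not_cent_le (hG : Ctx G) (hM : Mx M) (hx : x ∈ FTsupp0 M)
    (hC : ¬ 𝐂₁ x ≤ M) : x ∈ FTsupp1 M := by
  by_contra h
  refine hC fun g hg => FTsupp0_conj_mem hG hM hx h ?_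
  rwa [mem_cent1.1 hg, mul_inv_cancel_right]

/-- the signalizers of B & G and of Peterfalvi agree -/
theorem supportR_eq_signalizer (hG : Ctx G) (hM : Mx M)
    (hx : x ∈ sigmaCore M) (hx1 : x ≠ 1) : supportR M x = signalizer x := by
  have hσ : M ∈ sigmaMmax x := ⟨hM, hx⟩
  have h0 := nontrivial_sigma_mmax_iff hG hx1 hσ
  by_cases hC : 𝐂₁ x ≤ M
  · rw [supportR_eq_bot hC, signalizer_eq_bot fun e => h0.1 e hC]
  · obtain ⟨h1, -, -, h2, -⟩ := FT_signalizer_context' hG (Msigma_ell1 hM hx hx1) (h0.2 hC)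
    rw [supportR_eq hC h1, (Fcore_eq_Msigma hG h1.mmax).2 (notP1type_Msigma_nil hG h2)]
    rfl

theorem FT_Frobenius_type1 (hG : Ctx G) (hM : Mx M)
    (h : IsFrobKer M (fittingHallOf M)) : FTtype M = 1 := by
  obtain ⟨U, hU⟩ := h
  exact FTtype1_of_typeF hG hM (Frobenius_of_typeF hU)

theorem FTsupp_Frobenius (hG : Ctx G) (hM : Mx M)
    (h : IsFrobKer M (fittingHallOf M)) : FTsupp M = sharp (fittingHallOf M) := by
  refine Set.Subset.antisymm ?_ (Fcore_sub_FTsupp hG hM)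
  rintro a ⟨h1, h2, x, hx, hx1, hc⟩
  rw [FTcore_type1 (FT_Frobenius_type1 hG hM h)] at hx
  exact mem_sharp.2 ⟨h.cent1 hx hx1 ⟨FTder_sub M h1, hc⟩, h2⟩

/-- Peterfalvi (8.13)(b), (c), with the cyclic complement of B & G, Theorem II -/
theorem FTsupport_facts' (hG : Ctx G) (hM : Mx M) (hx : x ∈ FTsupp0 M)
    (hC : ¬ 𝐂₁ x ≤ M) :
    x ∈ FTsupp1 M ∧ ∃ L, UniqMax (𝐂₁ x) L ∧ supportR M x = fittingHallOf L ⊓ 𝐂₁ x ∧
      SDProd (fittingHallOf L) (M ⊓ L) L ∧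
      SDProd (fittingHallOf L ⊓ 𝐂₁ x) (M ⊓ 𝐂₁ x) (𝐂₁ x) ∧
      (∀ y ∈ FTsupp0 M, (Nat.card (fittingHallOf L)).Coprime (Nat.card ↥(M ⊓ 𝐂₁ y))) ∧
      x ∈ FTsupp L \ FTsupp1 L ∧ FTtype L ≤ 2 ∧ ¬ ConjIn ⊤ M L ∧
      (FTtype L = 2 → ∃ E, IsFrob M (fittingHallOf M) E ∧ IsCyclic E) := by
  have hx' := FTsupp1_of_not_cent_le hG hM hx hC
  refine ⟨hx', ?_⟩
  obtain ⟨hxs, hx1⟩ := (mem_FTsupp1_iff_sigma hG hM).1 hx'
  have hσ : M ∈ sigmaMmax x := ⟨hM, hxs⟩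
  have hnt := (nontrivial_sigma_mmax_iff hG hx1 hσ).2 hC
  have hell := Msigma_ell1 hM hxs hx1
  obtain ⟨h1, hR, hτ, h2, h3⟩ := FT_signalizer_context' hG hell hnt
  obtain ⟨-, hτσ, -, hH⟩ := h3 M hσ
  set N := signalizerBase x with hN
  have hNm := h1.mmax
  have e : fittingHallOf N = sigmaCore N := (Fcore_eq_Msigma hG hNm).2 (notP1type_Msigma_nil hG h2)
  have hxσ' : PiElt (sigma N)ᶜ x := sub_p_elt (tau2_sub_sigma' N) hτ
  have hdisj : Disjoint (sigma M) (sigma N) := by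
    refine (sigma_eq_or_disjoint hG hM hNm).resolve_left fun e' => hx1 ?_
    exact p_elt_eq_one (mem_p_elt (Msigma_pgroup M) hxs) (e' ▸ hxσ')
  have hle2 := (FTtype_le2_iff hG hNm).2 h2
  refine ⟨N, h1, supportR_eq hC h1, e ▸ sdprod_sigma hG hNm hH, e ▸ FT_signalizer_sdprod hG hx1 hσ,
    fun y hy => ?_, ⟨⟨?_, hx1, ?_⟩, fun h4 => ?_⟩, hle2, ?_, fun h4 => ?_⟩
  · rw [e]
    by_cases h5 : IsPiSubgroup (sigma N)ᶜ M
    · exact pnat_coprime (Msigma_pgroup N) (pgroupS inf_le_left h5)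
    obtain ⟨hF, -, h6⟩ := non_disjoint_signalizer_Frobenius hG hell hnt hσ h5
    obtain ⟨E, hE, -⟩ := ex_sigma_compl hG hM bot_le pgroup1
    have h7 := (h6 E hE).isFrobKer
    have h8 := (FTtype_Fmax hM).1 hF
    have e' := Fcore_eq_Msigma_of_le2 hG hM (h8.le.trans one_le_two)
    rw [FTsupp0_type1 h8, FTsupp_Frobenius hG hM (e' ▸ h7), e'] at hy
    exact pgroup_coprime_of_disjoint (Msigma_pgroup N)
      (pgroupS (h7.cent1 hy.1 hy.2) (Msigma_pgroup M)) hdisj.symm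
  · refine (mem_FTder_iff hG hNm (h1.le (cent1id x))).2 (sub_p_elt (fun p hp hκ => ?_) hτ)
    exact (kappa_tau13 hκ).elim (fun h => tau2'1 N h hp) fun h => tau3'2 N hp h
  · obtain ⟨z, hz, hz1⟩ := trivgPn.1 hR
    exact ⟨z, def_FTcore hG hNm ▸ hz.1, hz1, cent1C.1 hz.2⟩
  · exact hx1 (p_elt_eq_one
      (mem_p_elt (Msigma_pgroup N) ((mem_FTsupp1_iff_sigma hG hNm).1 h4).1) hxσ')
  · rintro ⟨g, -, e'⟩
    rw [e', sigmaJ, disjoint_self] at hdisj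
    exact hx1 (p_elt_eq_one (mem_p_elt (Msigma_pgroup M) hxs) (by
      rw [hdisj]; exact fun _ _ _ => by simp))
  · obtain ⟨hF, -, E, hE, hc⟩ := nonFtype_signalizer_base hG hM hxs hx1 hC fun h5 => by
      have := (FTtype_Fmax hNm).1 h5
      omega
    have h8 := (FTtype_Fmax hM).1 hF
    exact ⟨E, Fcore_eq_Msigma_of_le2 hG hM (h8.le.trans one_le_two) ▸ hE, hc⟩

/-- Peterfalvi (8.13)(b), (c) -/
theorem FTsupport_facts (hG : Ctx G) (hM : Mx M) (hx : x ∈ FTsupp0 M)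
    (hC : ¬ 𝐂₁ x ≤ M) :
    x ∈ FTsupp1 M ∧ ∃ L, UniqMax (𝐂₁ x) L ∧ supportR M x = fittingHallOf L ⊓ 𝐂₁ x ∧
      SDProd (fittingHallOf L) (M ⊓ L) L ∧
      SDProd (fittingHallOf L ⊓ 𝐂₁ x) (M ⊓ 𝐂₁ x) (𝐂₁ x) ∧
      (∀ y ∈ FTsupp0 M, (Nat.card (fittingHallOf L)).Coprime (Nat.card ↥(M ⊓ 𝐂₁ y))) ∧
      x ∈ FTsupp L \ FTsupp1 L ∧ FTtype L ≤ 2 ∧
      (FTtype L = 2 → IsFrobKer M (fittingHallOf M)) := by
  obtain ⟨h0, L, h1, h2, h3, h4, h5, h6, h7, -, h8⟩ := FTsupport_facts' hG hM hx hC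
  exact ⟨h0, L, h1, h2, h3, h4, h5, h6, h7, fun e => (h8 e).elim fun E hE => ⟨E, hE.1⟩⟩

theorem FTsignalizer_sdprod (hG : Ctx G) (hM : Mx M) (hx : x ∈ FTsupp0 M) :
    SDProd (supportR M x) (M ⊓ 𝐂₁ x) (𝐂₁ x) := by
  by_cases hC : 𝐂₁ x ≤ M
  · rw [supportR_eq_bot hC, inf_eq_right.2 hC]; exact SDProd.bot_left _
  · obtain ⟨-, L, -, h2, -, h4, -⟩ := FTsupport_facts hG hM hx hC
    rwa [h2]

/-- Peterfalvi (8.15) -/
theorem FT_Dade0_hyp (hG : Ctx G) (hM : Mx M) :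
    DadeHypothesis (FTsupp0 M) M (supportR M) where
  one_not_mem := one_not_mem_FTsupp0 M
  subset := (FTsupp0_sub M).trans (sharp_subset M)
  conj_mem := fun _ hg _ ha => FTsupp0_norm (normG M hg) ha
  fusion := fun _ ha _ hg => FTsupp0_fusion hG hM ha hg
  le_centralizer := fun a _ => supportR_le_cent1 M a
  conj_mem_H := fun _ ha _ hc _ hu =>
    (memJ_norm ((FTsignalizer_sdprod hG hM ha).norm_left hc)).2 hu
  inf_eq_bot := fun _ ha => (FTsignalizer_sdprod hG hM ha).inf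
  sup_eq := fun _ ha => (FTsignalizer_sdprod hG hM ha).sup
  coprime := fun a ha b hb => by
    by_cases hC : 𝐂₁ a ≤ M
    · rw [supportR_eq_bot hC, Subgroup.card_bot]; exact Nat.coprime_one_left _
    · obtain ⟨-, L, -, h2, -, -, h5, -⟩ := FTsupport_facts hG hM ha hC
      rw [h2]; exact coprimeSg inf_le_left (h5 b hb)

theorem FT_DadeX_hyp (hG : Ctx G) (hM : Mx M) {A : Set G}
    (hA : A ⊆ FTsupp0 M) (hn : ∀ g ∈ M, ∀ a ∈ A, g * a * g⁻¹ ∈ A) :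
    DadeHypothesis A M (supportR M) := restr_Dade_hyp (FT_Dade0_hyp hG hM) hA hn

theorem FT_Dade_hyp (hG : Ctx G) (hM : Mx M) :
    DadeHypothesis (FTsupp M) M (supportR M) :=
  FT_DadeX_hyp hG hM (FTsupp_sub0 M) fun _ hg _ ha => FTsupp_norm (normG M hg) ha

theorem FT_DadeF_hyp (hG : Ctx G) (hM : Mx M) :
    DadeHypothesis (sharp (fittingHallOf M)) M (supportR M) :=
  FT_DadeX_hyp hG hM (Fcore_sub_FTsupp0 hG hM) fun _ hg _ ha =>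
    (conj_mem_sharp ((Fcore_normal M).norm hg)).2 ha

theorem FT_prDade_hypX (hG : Ctx G) (hM : Mx M) (h : OfTypeP M U W W₁ W₂)
    {H : Subgroup G} (hH : H ⊲ M) (h1 : W₂ ≤ H) (h2 : H ≤ FTcore M) :
    PrimeDadeHyp M ⁅M, M⁆ H W W₁ W₂ (FTsupp M) (FTsupp0 M) (supportR M) := by
  have e := FTder_typeP (FTtypeP_neq1 hG hM h)
  exact ⟨FT_cyclicTI_hyp hG h, FT_primeTI_hyp hG h, FT_Dade0_hyp hG hM, hH, h1,
    h2.trans (FTcore_sub_der1 hG hM), fun _ hg _ ha => FTsupp_norm (normG M hg) ha,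
    fun y hy hy1 x hx hx1 => ⟨e ▸ hx.1, hx1, y, h2 hy, hy1, hx.2⟩, e ▸ FTsupp_sub_FTder M,
    FTtypeP_supp0_def hG hM h⟩

theorem FT_prDade_hyp (hG : Ctx G) (hM : Mx M) (h : OfTypeP M U W W₁ W₂) :
    PrimeDadeHyp M ⁅M, M⁆ (FTcore M) W W₁ W₂ (FTsupp M) (FTsupp0 M) (supportR M) :=
  FT_prDade_hypX hG hM h (FTcore_normal M) (h.W₂_le.trans (Fcore_sub_FTcore hG hM)) le_rfl

theorem FT_prDade_hypF (hG : Ctx G) (hM : Mx M) (h : OfTypeP M U W W₁ W₂) :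
    PrimeDadeHyp M ⁅M, M⁆ (fittingHallOf M) W W₁ W₂ (FTsupp M) (FTsupp0 M) (supportR M) :=
  FT_prDade_hypX hG hM h (Fcore_normal M) h.W₂_le (Fcore_sub_FTcore hG hM)

/-- Peterfalvi (8.16) -/
theorem FTtypeII_ker_TI (hG : Ctx G) (hM : Mx M) (h : FTtype M = 2) :
    NormedTI (FTsupp0 M) ⊤ M ∧ NormedTI (FTsupp M) ⊤ M ∧ NormedTI (FTsupp1 M) ⊤ M := by
  have hP := (FTtype_P2max hG hM).2 h
  obtain ⟨K, hK⟩ := ex_kappa_Hall hG hM
  have hTI := ((Ptype_structure hG hP.maxP hK).2.2.2.2.2.2 hP).2.2.2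
  have hne := FTsupp1_nonempty hG hM
  have h0 : NormedTI (FTsupp0 M) ⊤ M := by
    refine (Dade_normedTI_P (FT_Dade0_hyp hG hM)).2 ⟨hne.mono (FTsupp1_sub0 hG hM), fun a ha => ?_⟩
    refine supportR_eq_bot ?_
    by_contra hC
    exact hC (hTI.cent1_top
      (mem_sharp.2 ((mem_FTsupp1_iff_sigma hG hM).1 (FTsupp1_of_not_cent_le hG hM ha hC))))
  exact ⟨h0, h0.mono (hne.mono (FTsupp1_sub hG hM)) (FTsupp_sub0 M)
    fun _ hg _ ha => FTsupp_norm (normG M hg) ha,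
    h0.mono hne (FTsupp1_sub0 hG hM) fun _ hg _ ha => FTsupp1_norm (normG M hg) ha⟩

end Cfsg.Lib.FT.PG
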